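import Cfsg.Agent.CpAutSuz.ThreeCL
import Cfsg.Agent.CpAut.SporThree.Cent
import Cfsg.Agent.S0497

/-!
# `Suz`, class 3C (helper2)

`C(x) = C(E)` of order 3240 for `1 ≠ x ∈ E`; every element of order 3 commuting with an involution of class 2B is
conjugate to an element of `E`; `comps` : the components of `C(x) / O_{3'}(C(x))` are `C_3`-groups (`A₆`).
-/

set_option autoImplicit false
set_option linter.unusedSectionVars false
set_option maxRecDepth 100000
set_option exponentiation.threshold 4000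

namespace Cfsg.Agent.CpAutSuz.ThreeC

open Subgroup Cfsg
open Cfsg.Agent.LThree (Comps)
open Cfsg.Agent.SignalizersComponents

universe u v

/-! ### `H / W` simple, `W` solvable, abelian Sylow `p`-subgroups -/

/-- `K / Z(K) ≃ H / W` for a component `K` -/
theorem quot_equiv {H : Type u} [Group H] [Finite H] {S : Type v} [Group S] (hS : IsSimpleGroup S) (f : H →* S)
    (hf : Function.Surjective f) (hW : Group.IsSolvable ↥f.ker) {K : Subgroup H} (hK : IsComponent K) :
    Nonempty (↥K ⧸ center ↥K ≃* S) := by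
  have hWn : (f.ker.subgroupOf K).Normal := inferInstance
  have hle : f.ker.subgroupOf K ≤ center ↥K := by
    rcases Components.quasisimple_subnormal hK.2 hWn.isSubnormal with h | h
    · exfalso
      have h1 : K ≤ f.ker := subgroupOf_eq_top.1 h
      apply Components.quasisimple_not_isSolvable hK.2
      have h2 : Function.Injective (inclusion h1) := inclusion_injective h1
      exact Group.isSolvable_of_isSolvable_injective h2
    · exact h
  let g : ↥K →* S := f.comp K.subtype
  have hgk : g.ker = f.ker.subgroupOf K := rfl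
  have hgr : g.range = ⊤ := by
    have h1 : g.range = K.map f := by rw [MonoidHom.range_comp, range_subtype]
    have h2 : (K.map f).IsSubnormal := hK.1.map hf
    rcases h2.eq_bot_or_top_of_isSimpleGroup hS with h | h
    · exfalso
      have h3 : K ≤ f.ker := (Subgroup.map_eq_bot_iff K).1 h
      apply Components.quasisimple_center_ne_top hK.2
      rw [eq_top_iff]
      intro y _
      exact hle (mem_subgroupOf.2 (h3 y.2))
    · rw [h1, h]
  have hgs : Function.Surjective g := MonoidHom.range_eq_top.1 hgr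
  have hnc : ¬ IsMulCommutative S := by
    intro hc
    apply Components.quasisimple_not_isSolvable hK.2
    rw [Group.isSolvable_iff_subgroup_quotient g.ker]
    refine ⟨?_, ?_⟩
    · rw [hgk]
      exact Group.isSolvable_of_comm fun a b => Subtype.ext (mem_center_iff.1 (hle b.2) a)
    · have h1 : Group.IsSolvable S := Group.isSolvable_of_comm fun a b => hc.is_comm.comm a b
      exact Group.isSolvable_of_isSolvable_injective
        (f := (QuotientGroup.quotientKerEquivOfSurjective g hgs).toMonoidHom)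
        (QuotientGroup.quotientKerEquivOfSurjective g hgs).injective
  have hcS : center S = ⊥ := by
    rcases (inferInstance : (center S).Normal).eq_bot_or_eq_top with h | h
    · exact h
    · exfalso
      apply hnc
      refine ⟨⟨fun a b => ?_⟩⟩
      have : b ∈ center S := by rw [h]; trivial
      exact mem_center_iff.1 this a
  have hker : g.ker = center ↥K := by
    apply le_antisymm
    · rw [hgk]; exact hle
    · intro y hy
      rw [MonoidHom.mem_ker]
      have h1 : g y ∈ center S := by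
        rw [mem_center_iff]
        intro s
        obtain ⟨w, rfl⟩ := hgs s
        rw [← map_mul, ← map_mul, mem_center_iff.1 hy w]
      rw [hcS] at h1
      exact mem_bot.1 h1
  exact ⟨(QuotientGroup.quotientMulEquivOfEq hker.symm).trans (QuotientGroup.quotientKerEquivOfSurjective g hgs)⟩

/-- `H / W` simple on the `C_p`-list, `W` solvable, abelian Sylow `p`-subgroups -/
theorem comps_of_abelian {H : Type u} [Group H] [Finite H] {p : ℕ} (hp : p.Prime) (hp2 : p ≠ 2) (W : Subgroup H)
    [W.Normal] (hW : Group.IsSolvable ↥W) (hS : IsSimpleGroup (H ⧸ W)) (hC : IsCpSimple p (H ⧸ W)) (R : Sylow p H)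
    (hR : ∀ a ∈ (R : Subgroup H), ∀ b ∈ (R : Subgroup H), a * b = b * a) : Comps p H := by
  have hn := Lib.Cores.pPrimeCore_normal (G := H) p
  have hO : ((pPrimeCore p H).map (QuotientGroup.mk' W)).Normal :=
    Subgroup.Normal.map hn _ (QuotientGroup.mk'_surjective W)
  intro K hK
  rcases hO.eq_bot_or_eq_top with h | h
  · -- `O_{p'}(H) ≤ W`
    have hle : pPrimeCore p H ≤ W := by
      have := (Subgroup.map_eq_bot_iff _).1 h
      rwa [QuotientGroup.ker_mk'] at this
    let f : H ⧸ pPrimeCore p H →* H ⧸ W := QuotientGroup.map (pPrimeCore p H) W (MonoidHom.id H) hle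
    have hf : Function.Surjective f := by
      intro y
      obtain ⟨g, rfl⟩ := QuotientGroup.mk'_surjective W y
      exact ⟨QuotientGroup.mk g, rfl⟩
    have hk : Group.IsSolvable ↥f.ker := by
      let k : ↥W →* ↥f.ker :=
        ((QuotientGroup.mk' (pPrimeCore p H)).comp W.subtype).codRestrict f.ker (fun w => by
          rw [MonoidHom.mem_ker]
          exact (QuotientGroup.eq_one_iff _).2 w.2)
      have hks : Function.Surjective k := by
        rintro ⟨y, hy⟩
        obtain ⟨g, rfl⟩ := QuotientGroup.mk'_surjective (pPrimeCore p H) y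
        have h1 : (QuotientGroup.mk g : H ⧸ W) = 1 := hy
        exact ⟨⟨g, (QuotientGroup.eq_one_iff _).1 h1⟩, rfl⟩
      exact Group.isSolvable_of_surjective hks
    obtain ⟨e⟩ := quot_equiv hS f hf hk hK
    have hz := CpAut.Count.center_eq_bot hp R hR K hK
    refine ⟨hK.2, by rw [hz]; exact IsPGroup.of_bot, (CpQuot.Congr.isCpSimple_iff e p).2 hC, ?_⟩
    rintro (⟨h2, -⟩ | ⟨-, h3, -⟩)
    · exact hp2 h2
    · rw [hz, Subgroup.card_bot] at h3
      omega
  · -- `H = O_{p'}(H) W`
    exfalso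
    apply Components.quasisimple_not_isSolvable hK.2
    have h1 : pPrimeCore p H ⊔ W = ⊤ := by
      have h2 := congrArg (Subgroup.comap (QuotientGroup.mk' W)) h
      rw [comap_map_eq, QuotientGroup.ker_mk', comap_top] at h2
      exact h2
    let k : ↥W →* H ⧸ pPrimeCore p H := (QuotientGroup.mk' (pPrimeCore p H)).comp W.subtype
    have hks : Function.Surjective k := by
      intro y
      obtain ⟨g, rfl⟩ := QuotientGroup.mk'_surjective (pPrimeCore p H) y
      have h2 : g ∈ pPrimeCore p H ⊔ W := by rw [h1]; trivial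
      rw [mem_sup_of_normal_left] at h2
      obtain ⟨a, ha, b, hb, rfl⟩ := h2
      refine ⟨⟨b, hb⟩, ?_⟩
      show (QuotientGroup.mk b : H ⧸ pPrimeCore p H) = QuotientGroup.mk (a * b)
      rw [QuotientGroup.mk_mul, (QuotientGroup.eq_one_iff a).2 ha, one_mul]
    have h3 : Group.IsSolvable (H ⧸ pPrimeCore p H) := Group.isSolvable_of_surjective hks
    infer_instance

/-! ### `C(x) = C(E)` -/

open Cfsg.Spor Cfsg.Agent.Lib.PermNet Cfsg.Agent.Lib.PermNetOrbit Cfsg.Agent.SporadicRecognition.SuzPhi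
  Cfsg.Agent.SporadicRecognition.SuzBound Cfsg.Agent.SporadicRecognition.SuzOrder
  Cfsg.Agent.SuzThree.Nets Cfsg.Agent.SuzThree.Basic Cfsg.Agent.SuzThree.Elts
  Cfsg.Agent.SuzThree.CentA
  Cfsg.Agent.SuzThree.QZero Cfsg.Agent.KFacts.SuzCent Cfsg.Agent.KFacts.SuzLFour Cfsg.Agent.KFacts.SuzTwoB
open Cfsg.Agent.PreUniq.Spor.SuzP
open Cfsg.Agent.J3Type.ExistsW (HD8)

/-- `C(x) ∩ C(e) ≤ C(E)` -/
theorem cent_ex {x : Suz} (hx : x ∈ E) (hx1 : x ≠ 1) {g : Suz} (h : g * x = x * g) (he : g * e0 = e0 * g) :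
    g ∈ X := by
  have key : ∀ m ∈ VL, m * x = x * m → m ∈ X := by
    rintro _ ⟨v, hv, l, hl, rfl⟩ hm
    have h2 := V_comm v hv x (E_le_L hx)
    have h3 : v * (l * x) = v * (x * l) := by
      calc v * (l * x) = (v * l) * x := by group
        _ = x * (v * l) := hm
        _ = (x * v) * l := by group
        _ = (v * x) * l := by rw [h2]
        _ = v * (x * l) := by group
    exact mul_mem (VX hv) (E_le_X (cent_Lx hx hx1 hl (mul_left_cancel h3)))
  by_cases hg : g ∈ VL
  · exact key g hg h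
  · have hgC : g ∈ CE := mem_CE.2 he
    have huC : u ∈ CE := mem_CE.2 ue
    have h1 : u * g ∈ VL := by
      have h2 := (Subgroup.mul_mem_iff_of_index_two idx.1 (a := (⟨u, huC⟩ : CE)) (b := ⟨g, hgC⟩)).2 (by
        rw [Subgroup.mem_subgroupOf, Subgroup.mem_subgroupOf]
        exact ⟨fun h => absurd h u_notin, fun h => absurd h hg⟩)
      exact Subgroup.mem_subgroupOf.1 h2
    have h3 : u * g * x = x * (u * g) := by
      rw [mul_assoc, h, ← mul_assoc, ← comm_X uX hx, mul_assoc]
    have h4 := key _ h1 h3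
    have h5 : g = u * (u * g) := by rw [← mul_assoc, uu, one_mul]
    rw [h5]
    exact mul_mem uX h4

theorem odd_EX : Odd (Nat.card (E.subgroupOf X)) := by rw [card_EX]; decide

theorem cen_EX : ∀ p ∈ E.subgroupOf X, ∀ y : X, y * p = p * y := fun _ hp y =>
  Subtype.ext (comm_X y.2 (mem_subgroupOf.1 hp)).symm

/-- `N(E) ∩ C(x) ≤ C(E)` -/
theorem norm_x {x : Suz} (hx : x ∈ E) (hx1 : x ≠ 1) {g : Suz} (hgE : ∀ p ∈ E, g * p * g⁻¹ ∈ E)
    (hgx : g * x = x * g) : g ∈ X := by
  have := finSuz
  have hiff := Cfsg.Agent.ONType.OddCent.conj_mem_iff E hgE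
  have h1 : g * e0 * g⁻¹ ∈ X := by
    refine mem_centralizer_iff.2 fun p hp => ?_
    have h2 : g⁻¹ * p * g ∈ E := by
      rw [hiff]
      have h3 : g * (g⁻¹ * p * g) * g⁻¹ = p := by group
      rw [h3]; exact hp
    have h4 := comm_X e0X h2
    calc p * (g * e0 * g⁻¹) = g * (g⁻¹ * p * g * e0) * g⁻¹ := by group
      _ = g * (e0 * (g⁻¹ * p * g)) * g⁻¹ := by rw [h4]
      _ = g * e0 * g⁻¹ * p := by group
  have h2 : orderOf (g * e0 * g⁻¹) = 2 := by
    rw [Cfsg.Agent.TwoFusion.StronglyEmbeddedBasic.orderOf_conj]; exact ord_e0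
  obtain ⟨y, hy⟩ := Cfsg.Agent.ONType.CentX.isConj_lift (E.subgroupOf X) odd_EX cen_EX hd8
    (j := ⟨g * e0 * g⁻¹, h1⟩) (r := ⟨e0, e0X⟩) ((orderOf_mk _ _).trans h2) ((orderOf_mk _ _).trans ord_e0)
  have hyt : (y : Suz) * (g * e0 * g⁻¹) * (y : Suz)⁻¹ = e0 := congrArg Subtype.val hy
  have h3 : (y : Suz) * g * e0 = e0 * (y * g) := by
    calc (y : Suz) * g * e0 = y * (g * e0 * g⁻¹) * (y : Suz)⁻¹ * (y * g) := by group
      _ = e0 * (y * g) := by rw [hyt]
  have h4 : (y : Suz) * g * x = x * (y * g) := by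
    rw [mul_assoc, hgx, ← mul_assoc, ← comm_X y.2 hx, mul_assoc]
  have h5 := cent_ex hx hx1 h4 h3
  have h6 : g = (y : Suz)⁻¹ * (y * g) := by group
  rw [h6]
  exact mul_mem (inv_mem y.2) h5

/-- **`C(x) = C(E)`** -/
theorem cent_x {x : Suz} (hx : x ∈ E) (hx1 : x ≠ 1) {g : Suz} (hg : g * x = x * g) : g ∈ X := by
  have := finSuz
  let H := centralizer ({x} : Set Suz)
  have hXH : X ≤ H := fun y hy => mem_centralizer_singleton_iff.mpr (comm_X hy hx).symm
  have hPH : E ≤ H := E_le_X.trans hXH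
  have key : X.subgroupOf H = ⊤ := by
    have hn : ((E.subgroupOf H).subgroupOf (X.subgroupOf H)).Normal := by
      constructor
      intro n hn y
      have h1 : y * n * y⁻¹ = n := by
        apply Subtype.ext
        apply Subtype.ext
        have := comm_X (mem_subgroupOf.mp y.2) (mem_subgroupOf.mp (mem_subgroupOf.mp hn))
        show ((y : H) : Suz) * n * ((y : H) : Suz)⁻¹ = n
        rw [← this]; group
      rw [h1]; exact hn
    let e : X.subgroupOf H ≃* X := subgroupOfEquivOfLe hXH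
    have hmap : ((E.subgroupOf H).subgroupOf (X.subgroupOf H)).map (e : _ →* _) = E.subgroupOf X := by
      ext y
      constructor
      · rintro ⟨z, hz, rfl⟩
        exact mem_subgroupOf.mpr (mem_subgroupOf.mp (mem_subgroupOf.mp hz))
      · intro hy
        refine ⟨⟨⟨y, hXH y.2⟩, mem_subgroupOf.mpr y.2⟩, ?_, rfl⟩
        exact mem_subgroupOf.mpr (mem_subgroupOf.mpr (mem_subgroupOf.mp hy))
    have hHD : HD8 ((X.subgroupOf H) ⧸ (E.subgroupOf H).subgroupOf (X.subgroupOf H)) := by
      have e2 := QuotientGroup.congr ((E.subgroupOf H).subgroupOf (X.subgroupOf H)) (E.subgroupOf X) e hmap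
      exact Cfsg.Agent.ONType.OddCent.HD8_of_equiv e2.symm hd8
    refine Cfsg.Agent.ONType.CentX.eq_top (E.subgroupOf H) (X.subgroupOf H) ⟨x, hPH hx⟩ ⟨e0, hXH e0X⟩
      (mem_subgroupOf.mpr hx) ?_ ?_ ?_ ?_ ?_ ?_ ((orderOf_mk _ _).trans ord_e0) (mem_subgroupOf.mpr e0X) ?_ ?_ hn hHD
    · intro h1; exact hx1 (congrArg Subtype.val h1)
    · intro y
      exact Subtype.ext (mem_centralizer_singleton_iff.mp y.2)
    · rw [Nat.card_congr (subgroupOfEquivOfLe hPH).toEquiv, card_E]
    · intro p hp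
      exact Subtype.ext (cube_E (mem_subgroupOf.mp hp))
    · intro p hp
      exact mem_subgroupOf.mpr (E_le_X (mem_subgroupOf.mp hp))
    · intro y
      rw [mem_subgroupOf]
      constructor
      · intro h1 p hp
        exact Subtype.ext (comm_X h1 (mem_subgroupOf.mp hp)).symm
      · intro h1
        exact mem_centralizer_iff.2 fun p hp => (congrArg Subtype.val (h1 ⟨p, hPH hp⟩ (mem_subgroupOf.mpr hp))).symm
    · intro y hy
      rw [mem_subgroupOf]
      exact cent_ex hx hx1 (mem_centralizer_singleton_iff.mp y.2) (congrArg Subtype.val hy)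
    · intro y hy
      rw [mem_subgroupOf]
      apply norm_x hx hx1 _ (mem_centralizer_singleton_iff.mp y.2)
      intro p hp
      exact mem_subgroupOf.mp (hy ⟨p, hPH hp⟩ (mem_subgroupOf.mpr hp))
  have h1 : (⟨g, mem_centralizer_singleton_iff.mpr hg⟩ : H) ∈ X.subgroupOf H := by
    rw [key]; exact mem_top _
  exact mem_subgroupOf.mp h1

theorem centralizer_eq {x : Suz} (hx : x ∈ E) (hx1 : x ≠ 1) : centralizer ({x} : Set Suz) = X := by
  ext g
  rw [mem_centralizer_singleton_iff]
  exact ⟨fun h => cent_x hx hx1 h, fun h => (comm_X h hx).symm⟩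

theorem card_centralizer {x : Suz} (hx : x ∈ E) (hx1 : x ≠ 1) : Nat.card (centralizer ({x} : Set Suz)) = 3240 := by
  rw [centralizer_eq hx hx1, card_X]

/-! ### The components -/

theorem card_quot : Nat.card (X ⧸ E.subgroupOf X) = 360 := by
  have := finSuz
  have h1 := Subgroup.card_eq_card_quotient_mul_card_subgroup (E.subgroupOf X)
  rw [card_EX, card_X] at h1
  omega

theorem sup_comm : ∀ a ∈ (E ⊔ F : Subgroup Suz), ∀ b ∈ (E ⊔ F : Subgroup Suz), a * b = b * a := by
  have hEE : ∀ a ∈ E, ∀ b ∈ E, a * b = b * a := fun a ha b hb =>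
    Cfsg.Agent.CpQuot.EightyOne.closure_comm x_comm ha hb
  have hFF : ∀ a ∈ F, ∀ b ∈ F, a * b = b * a := fun a ha b hb =>
    Cfsg.Agent.CpQuot.EightyOne.closure_comm g_comm ha hb
  have hEF : ∀ a ∈ E, ∀ b ∈ F, a * b = b * a := fun a ha b hb => comm_X (A_le (F_le_A hb)) ha
  intro a ha b hb
  obtain ⟨e, he, f, hf, rfl⟩ := Cfsg.Agent.PreUniq.Core.mem_sup_of_le_normalizer E_norm_F ha
  obtain ⟨e', he', f', hf', rfl⟩ := Cfsg.Agent.PreUniq.Core.mem_sup_of_le_normalizer E_norm_F hb
  calc e * f * (e' * f') = e * (f * e') * f' := by group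
    _ = e * (e' * f) * f' := by rw [hEF e' he' f hf]
    _ = (e * e') * (f * f') := by group
    _ = (e' * e) * (f' * f) := by rw [hEE e he e' he', hFF f hf f' hf']
    _ = e' * (e * f') * f := by group
    _ = e' * (f' * e) * f := by rw [hEF e he f' hf']
    _ = e' * f' * (e * f) := by group

theorem comps_X : Comps 3 ↥X := by
  have hfin := finSuz
  have hF3 : Fact (Nat.Prime 3) := ⟨Nat.prime_three⟩
  have hle : E ⊔ F ≤ X := sup_le E_le_X (F_le_A.trans A_le)
  have hc : Nat.card ((E ⊔ F : Subgroup Suz).subgroupOf X) = 3 ^ (Nat.card X).factorization 3 := by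
    rw [Nat.card_congr (subgroupOfEquivOfLe hle).toEquiv, card_sup, card_X]
    have h0 : (3240 : ℕ) ≠ 0 := by norm_num
    have h1 : 4 ≤ (3240 : ℕ).factorization 3 :=
      (Nat.prime_three.pow_dvd_iff_le_factorization h0).1 (by norm_num)
    have h2 : ¬ 4 + 1 ≤ (3240 : ℕ).factorization 3 := fun h => by
      have := (Nat.prime_three.pow_dvd_iff_le_factorization h0).2 h
      norm_num at this
    have h3 : (3240 : ℕ).factorization 3 = 4 := by omega
    rw [h3]; norm_num
  let R : Sylow 3 X := Sylow.ofCard _ hc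
  have hsimple := simple_X
  obtain ⟨e⟩ := Cfsg.Agent.S0497.result card_quot
  refine comps_of_abelian Nat.prime_three (by norm_num) (E.subgroupOf X) ?_ simple_X
    (Or.inr (Or.inl ⟨6, Or.inr (Or.inl rfl), ⟨e⟩⟩)) R ?_
  · exact Group.isSolvable_of_comm fun a b => Subtype.ext (cen_EX _ b.2 a)
  · intro a ha b hb
    exact Subtype.ext (sup_comm _ (mem_subgroupOf.1 ha) _ (mem_subgroupOf.1 hb))

theorem comps_E {x : Suz} (hx : x ∈ E) (hx1 : x ≠ 1) : Comps 3 ↥(centralizer ({x} : Set Suz)) := by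
  rw [centralizer_eq hx hx1]
  exact comps_X

/-- an element of order 3 of `C(e)` is conjugate in `C(e)` to an element of `E` -/
theorem exists_conj {x : Suz} (hx : orderOf x = 3) (he : x * e0 = e0 * x) :
    ∃ c : Suz, c * e0 = e0 * c ∧ c * x * c⁻¹ ∈ E := by
  have hfin := finSuz
  have hF3 : Fact (Nat.Prime 3) := ⟨Nat.prime_three⟩
  have hEC : E ≤ CE := E_le_L.trans (L_le.trans VL_le)
  have hidx : ¬ 3 ∣ E.relIndex CE := by
    intro h
    have h1 : Nat.card (E.subgroupOf CE) * E.relIndex CE = Nat.card CE := card_mul_index (E.subgroupOf CE)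
    rw [Nat.card_congr (subgroupOfEquivOfLe hEC).toEquiv] at h1
    rw [card_E, card_CE] at h1
    have h2 : E.relIndex CE = 17920 := by omega
    rw [h2] at h
    norm_num at h
  obtain ⟨c, hc, hcx⟩ := Cfsg.Agent.SuzThree.GoodX.exists_conj_le (p := 3) (C := CE) (S := E) (X := zpowers x)
    (by rw [zpowers_le]; exact mem_CE.2 he) isPGroup_E
    (IsPGroup.of_card (n := 1) (by rw [Nat.card_zpowers, hx, pow_one])) hidx
  exact ⟨c, mem_CE.1 hc, hcx ⟨x, mem_zpowers x, rfl⟩⟩

theorem exists_conj_ne {x : Suz} (hx : orderOf x = 3) (he : x * e0 = e0 * x) :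
    ∃ c : Suz, c * x * c⁻¹ ∈ E ∧ c * x * c⁻¹ ≠ 1 := by
  obtain ⟨c, -, hc⟩ := exists_conj hx he
  refine ⟨c, hc, fun h => ?_⟩
  have h1 : x = 1 := by
    calc x = c⁻¹ * (c * x * c⁻¹) * c := by group
      _ = 1 := by rw [h]; group
  rw [h1, orderOf_one] at hx
  omega

/-- `|C(x)| = 3240` for `x` of order 3 commuting with an involution of class 2B -/
theorem card_of_comm {x : Suz} (hx : orderOf x = 3) (he : x * e0 = e0 * x) :
    Nat.card (centralizer ({x} : Set Suz)) = 3240 := by
  obtain ⟨c, hc, hc1⟩ := exists_conj_ne hx he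
  rw [← CpAut.SporThree.Cent.card_centralizer_conj c x, card_centralizer hc hc1]

/-- **class 3C** -/
theorem comps {x : Suz} (hx : orderOf x = 3) (he : x * e0 = e0 * x) : Comps 3 ↥(centralizer ({x} : Set Suz)) := by
  obtain ⟨c, hc, hc1⟩ := exists_conj_ne hx he
  exact (comps_E hc hc1).congr (CpAut.SporThree.Cent.centConj c x).symm

/-- **class 3C**, for any involution of class 2B -/
theorem comps_of_conj {x t : Suz} (hx : orderOf x = 3) (ht : IsConj e0 t) (h : x * t = t * x) :
    Comps 3 ↥(centralizer ({x} : Set Suz)) := by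
  obtain ⟨g, rfl⟩ := isConj_iff.1 ht
  have h1 : orderOf (g⁻¹ * x * g) = 3 := by
    have := Cfsg.Agent.TwoFusion.StronglyEmbeddedBasic.orderOf_conj g⁻¹ x
    rw [inv_inv] at this
    rw [this, hx]
  have h2 : g⁻¹ * x * g * e0 = e0 * (g⁻¹ * x * g) := by
    calc g⁻¹ * x * g * e0 = g⁻¹ * (x * (g * e0 * g⁻¹)) * g := by group
      _ = g⁻¹ * (g * e0 * g⁻¹ * x) * g := by rw [h]
      _ = e0 * (g⁻¹ * x * g) := by group
  have h3 := (comps h1 h2).congr (CpAut.SporThree.Cent.centConj g (g⁻¹ * x * g))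
  have h4 : g * (g⁻¹ * x * g) * g⁻¹ = x := by group
  rwa [h4] at h3

end Cfsg.Agent.CpAutSuz.ThreeC
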