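import Cfsg.Agent.PreUniq.SporSuz
import Cfsg.Agent.BpSpor.SuzThreeRank

/-!
# `Suz`, class 3C: `C_L(x) = E` for `1 ≠ x ∈ E`, `L = L₃(4)` (helper2)

`x` has 3 fixed points among the 21 points, so `l ^ 6` fixes two of them for `l ∈ C_L(x)`, and `l ^ 288 = 1`; there is
no involution in `C_L(x)`, so it is a 3-group.
-/

set_option autoImplicit false
set_option linter.unusedSectionVars false
set_option maxRecDepth 100000
set_option exponentiation.threshold 4000

namespace Cfsg.Agent.CpAutSuz.ThreeC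

open Subgroup Cfsg
open Cfsg.Spor Cfsg.Agent.Lib.PermNet Cfsg.Agent.Lib.PermNetOrbit Cfsg.Agent.SporadicRecognition.SuzPhi
  Cfsg.Agent.SporadicRecognition.SuzBound Cfsg.Agent.SporadicRecognition.SuzOrder
  Cfsg.Agent.SuzThree.Nets Cfsg.Agent.SuzThree.Basic Cfsg.Agent.SuzThree.Elts
  Cfsg.Agent.SuzThree.CentA Cfsg.Agent.SuzThree.CentB
  Cfsg.Agent.SuzThree.QZero Cfsg.Agent.KFacts.SuzCent Cfsg.Agent.KFacts.SuzLFour Cfsg.Agent.KFacts.SuzTwoB
open Cfsg.Agent.PreUniq.Spor.SuzP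
open Cfsg.Agent.SporRec.SuzCl (Fx)
open Cfsg.Agent.KFacts.SuzTL (O21 map_O21 tb0 tb1 two_trans)

/-! ### Two-point stabilizers of `L` -/

theorem bit0 : O21.testBit 0 = true := by rw [← tb_eq]; exact tb0
theorem bit1 : O21.testBit 1 = true := by rw [← tb_eq]; exact tb1

theorem card_stab01 : Nat.card (stabL (φS L) [1, 0]) = 48 := by
  have := finSuz
  have hL : Nat.card (stabL (φS L) []) = 20160 := by
    have h : stabL (φS L) [] = ⊤ := by
      rw [eq_top_iff]; intro g _ q hq; exact absurd hq (by simp)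
    rw [h, Subgroup.card_top, card_L]
  have hA : 21 * Nat.card (stabL (φS L) [0]) ≤ Nat.card (stabL (φS L) []) :=
    stabL_step_of_check (φS L) (k := 11) (ws := gl.map wd) [] 0 21 8 (wsokS _)
      (himgS (words_mem (by decide))) (by decide +kernel) (by decide +kernel) (by decide +kernel)
  have hB : 20 * Nat.card (stabL (φS L) [1, 0]) ≤ Nat.card (stabL (φS L) [0]) :=
    stabL_step_of_check (φS L) (k := 11) (ws := [[Suz.Gen.a], [.b], [.c], [.f]].map wd) [0] 1 20 10 (wsokS _)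
      (himgS (words_mem (by decide))) (by decide +kernel) (by decide +kernel) (by decide +kernel)
  have hlt : ∀ {g : L} {p : ℕ}, p < 1782 → φ (g : Suz) p < 2 ^ 11 := fun hp =>
    lt_of_lt_of_le (φ_lt _ hp) (by norm_num)
  have hcard : (bits (2 ^ 11) O21).card = 21 := by
    rw [← pc_eq 11 O21 (lt_of_chk KFacts.SuzTL.ltO)]; exact Nat.eq_of_beq_eq_true KFacts.SuzTL.pcO
  have hA' : Nat.card (stabL (φS L) []) ≤ 21 * Nat.card (stabL (φS L) [0]) := by
    have h := stabL_le (φS L) [] 0 (bits (2 ^ 11) O21) (fun g _ => mem_bits.2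
      ⟨hlt (by norm_num), (map_O21 g.2 0).trans bit0⟩)
    rwa [hcard] at h
  have hB' : Nat.card (stabL (φS L) [0]) ≤ 20 * Nat.card (stabL (φS L) [1, 0]) := by
    have h := stabL_le (φS L) [0] 1 ((bits (2 ^ 11) O21).erase 0) (fun g hg => Finset.mem_erase.2
      ⟨fun h0 => by
        have h1 : φ (g : Suz) 0 = 0 := hg 0 (by simp)
        have h2 : φ (g : Suz) 1 = 0 := h0
        have h3 := (φ (g : Suz)).injective (h2.trans h1.symm)
        omega, mem_bits.2 ⟨hlt (by norm_num), (map_O21 g.2 1).trans bit1⟩⟩)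
    rwa [Finset.card_erase_of_mem (mem_bits.2 ⟨by norm_num, bit0⟩), hcard] at h
  omega

theorem pow48 {l : Suz} (hl : l ∈ L) {a b : ℕ} (ha : O21.testBit a = true) (hb : O21.testBit b = true) (hab : a ≠ b)
    (hla : φ l a = a) (hlb : φ l b = b) : l ^ 48 = 1 := by
  obtain ⟨g, hg, hga, hgb⟩ := two_trans ha hb hab bit0 bit1 (by norm_num)
  have hfix : ∀ {p q : ℕ}, φ g p = q → φ l p = p → φ (g * l * g⁻¹) q = q := by
    intro p q h1 h2
    have h3 : φ g⁻¹ q = p := by
      rw [← h1, ← Equiv.Perm.mul_apply, ← map_mul, inv_mul_cancel, map_one]; rfl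
    rw [map_mul, map_mul, Equiv.Perm.mul_apply, Equiv.Perm.mul_apply, h3, h2, h1]
  have h1 : (⟨g * l * g⁻¹, L.mul_mem (L.mul_mem hg hl) (L.inv_mem hg)⟩ : L) ∈ stabL (φS L) [1, 0] := by
    intro q hq
    show φ (g * l * g⁻¹) q = q
    simp only [List.mem_cons, List.not_mem_nil, or_false] at hq
    rcases hq with rfl | rfl
    · exact hfix hgb hlb
    · exact hfix hga hla
  have h2 := pow_card_eq_one' (G := stabL (φS L) [1, 0]) (x := ⟨_, h1⟩)
  rw [card_stab01] at h2
  have h3 : (g * l * g⁻¹) ^ 48 = 1 := congrArg (fun z : stabL (φS L) [1, 0] => ((z : L) : Suz)) h2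
  rw [conj_pow] at h3
  calc l ^ 48 = g⁻¹ * (g * l ^ 48 * g⁻¹) * g := by group
    _ = 1 := by rw [h3]; group

theorem pow_six {T : Finset ℕ} (hT : T.card = 3) {f : Equiv.Perm ℕ} (hf : ∀ p ∈ T, f p ∈ T) {p : ℕ} (hp : p ∈ T) :
    (f ^ 6) p = p := by
  classical
  let σ : Equiv.Perm {x // x ∈ T} := f.subtypePermOfFintype hf
  have h1 : σ ^ 6 = 1 := by
    have h2 := pow_card_eq_one (x := σ)
    rwa [Fintype.card_perm, Fintype.card_coe, hT] at h2
  have h2 : ∀ (n : ℕ) (x : {x // x ∈ T}), (((σ ^ n) x : {x // x ∈ T}) : ℕ) = (f ^ n) x := by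
    intro n
    induction n with
    | zero => intro x; rfl
    | succ n ih =>
      intro x
      rw [pow_succ, pow_succ, Equiv.Perm.mul_apply, Equiv.Perm.mul_apply, ih]
      rfl
  have h3 := h2 6 ⟨p, hp⟩
  rw [h1] at h3
  exact h3.symm

/-! ### The fixed points of `x` among the 21 points -/

/-- the fixed points among the 21 points -/
noncomputable def T3 (x : Suz) : Finset ℕ := (Fx x).filter fun p => O21.testBit p = true

theorem mem_T3 {x : Suz} {p : ℕ} : p ∈ T3 x ↔ (p < 1782 ∧ φ x p = p) ∧ O21.testBit p = true := by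
  rw [T3, Finset.mem_filter, Fx, Finset.mem_filter, Finset.mem_range]

theorem card_T3 {w : List Suz.Gen} (h : Nat.beq (pc 11 (Nat.land O21 (fxw w))) 3 = true) : (T3 (el w)).card = 3 := by
  have h1 : T3 (el w) = bits (2 ^ 11) (O21 &&& fxw w) := by
    ext p
    rw [T3, Fx_el, Finset.mem_filter, mem_bits, mem_bits, Nat.testBit_and, Bool.and_eq_true]
    exact ⟨fun h => ⟨h.1.1, h.2, h.1.2⟩, fun h => ⟨⟨h.1, h.2.2⟩, h.2.1⟩⟩
  rw [h1]
  exact card_land KFacts.SuzTL.ltO h

/-- the words of `E` -/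
def ew (i j : ℕ) : List Suz.Gen := (List.replicate i x1w).flatten ++ (List.replicate j x2w).flatten

theorem el_rep (w : List Suz.Gen) (i : ℕ) : el (List.replicate i w).flatten = el w ^ i := by
  induction i with
  | zero => rw [pow_zero, List.replicate_zero, List.flatten_nil]; exact el_nil
  | succ i ih => rw [List.replicate_succ, List.flatten_cons, el_append, ih, pow_succ']

theorem el_ew (i j : ℕ) : el (ew i j) = el x1w ^ i * el x2w ^ j := by
  rw [ew, el_append, el_rep, el_rep]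

theorem chk_ew : ∀ i j : Fin 3, (i, j) ≠ (0, 0) →
    Nat.beq (pc 11 (Nat.land O21 (fxw (ew (i : ℕ) (j : ℕ))))) 3 = true := by
  intro i j
  fin_cases i <;> fin_cases j <;> first | (intro h; exact absurd rfl h) | (intro _; decide +kernel)

theorem card_T3_E {x : Suz} (hx : x ∈ E) (hx1 : x ≠ 1) : (T3 x).card = 3 := by
  obtain ⟨i, j, rfl⟩ := Cfsg.Agent.PreUniq.Spor.ONP.mem_pair x12 cube_x1 cube_x2 hx
  rw [← el_ew]
  refine card_T3 (chk_ew i j ?_)
  intro h
  apply hx1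
  have h1 : i = 0 := congrArg Prod.fst h
  have h2 : j = 0 := congrArg Prod.snd h
  rw [h1, h2]
  show el x1w ^ 0 * el x2w ^ 0 = 1
  rw [pow_zero, pow_zero, one_mul]

/-! ### `C_L(x) = E` -/

theorem pow288 {x : Suz} (hx : x ∈ E) (hx1 : x ≠ 1) {l : Suz} (hl : l ∈ L) (h : l * x = x * l) : l ^ 288 = 1 := by
  have h3 := card_T3_E hx hx1
  obtain ⟨a, ha, b, hb, hab⟩ := Finset.one_lt_card.1 (show 1 < (T3 x).card by omega)
  have hf : ∀ p ∈ T3 x, φ l p ∈ T3 x := by
    intro p hp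
    obtain ⟨⟨h1, h2⟩, h4⟩ := mem_T3.1 hp
    refine mem_T3.2 ⟨⟨φ_lt _ h1, ?_⟩, (map_O21 hl p).trans h4⟩
    rw [φ_comm h.symm, h2]
  have h6 : ∀ p ∈ T3 x, φ (l ^ 6) p = p := by
    intro p hp
    rw [map_pow]
    exact pow_six h3 hf hp
  have h7 := pow48 (L.pow_mem hl 6) (mem_T3.1 ha).2 (mem_T3.1 hb).2 hab (h6 a ha) (h6 b hb)
  rw [← pow_mul] at h7
  exact h7

theorem cube_E {x : Suz} (hx : x ∈ E) : x ^ 3 = 1 :=
  Cfsg.Agent.CpQuot.EightyOne.closure_cube x_comm x_cube hx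

/-- **`C_L(x) = E`** -/
theorem cent_Lx {x : Suz} (hx : x ∈ E) (hx1 : x ≠ 1) {l : Suz} (hl : l ∈ L) (h : l * x = x * l) : l ∈ E := by
  have hfin := finSuz
  have hF3 : Fact (Nat.Prime 3) := ⟨Nat.prime_three⟩
  have hF2 : Fact (Nat.Prime 2) := ⟨Nat.prime_two⟩
  set H : Subgroup Suz := L ⊓ centralizer ({x} : Set Suz) with hH
  have hEH : E ≤ H := fun e he => ⟨E_le_L he, mem_centralizer_singleton_iff.2
    (Cfsg.Agent.CpQuot.EightyOne.closure_comm x_comm he hx)⟩
  have hodd : ¬ 2 ∣ Nat.card H := by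
    intro h2
    obtain ⟨t, ht⟩ := exists_prime_orderOf_dvd_card' (G := H) 2 h2
    have ht' : orderOf (t : Suz) = 2 := by rw [Subgroup.orderOf_coe, ht]
    refine Cfsg.Agent.BpSpor.SuzThree.no_six (E_le_L hx) t.2.1 (cube_E hx) hx1 ?_ ?_
      (mem_centralizer_singleton_iff.1 t.2.2).symm
    · rw [← pow_two, ← ht', pow_orderOf_eq_one]
    · intro h1
      rw [h1, orderOf_one] at ht'
      omega
  have hp : IsPGroup 3 H := by
    intro m
    refine ⟨2, ?_⟩
    have h1 : m ^ 288 = 1 := Subtype.ext (pow288 hx hx1 m.2.1 (mem_centralizer_singleton_iff.1 m.2.2))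
    have h2 : orderOf m ∣ 2 ^ 5 * 9 := by
      have := orderOf_dvd_of_pow_eq_one h1
      norm_num
      exact this
    have h3 : (orderOf m).Coprime (2 ^ 5) := by
      apply Nat.Coprime.pow_right
      rw [Nat.coprime_comm, Nat.prime_two.coprime_iff_not_dvd]
      exact fun h => hodd (h.trans (orderOf_dvd_natCard m))
    exact orderOf_dvd_iff_pow_eq_one.1 (by
      have := h3.dvd_of_dvd_mul_left h2
      norm_num
      exact this)
  obtain ⟨k, hk⟩ := IsPGroup.iff_card.1 hp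
  have h1 : Nat.card H ∣ 20160 := by
    rw [← card_L]; exact Subgroup.card_dvd_of_le inf_le_left
  have h2 : k ≤ 2 := by
    by_contra hlt
    have h3 : 3 ^ 3 ∣ 20160 := (pow_dvd_pow 3 (show 3 ≤ k by omega)).trans (hk ▸ h1)
    norm_num at h3
  have h3 : Nat.card H ≤ Nat.card E := by
    rw [hk, card_E]
    calc 3 ^ k ≤ 3 ^ 2 := Nat.pow_le_pow_right (by norm_num) h2
      _ = 9 := by norm_num
  have h4 : E = H := Subgroup.eq_of_le_of_card_ge hEH h3
  rw [h4]
  exact ⟨hl, mem_centralizer_singleton_iff.2 h⟩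

end Cfsg.Agent.CpAutSuz.ThreeC
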